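import Cfsg.Agent.Lib.PrimeBlock.PrimeDegree.Setup
import Cfsg.Agent.Lib.PrimeBlock.SmallCofactor.Minus
import Cfsg.Agent.Lib.Perm.PermModule
import Cfsg.Agent.Lib.Characters.Counting

/-!
# Prime degree, normalizer of order `2 p`: the permutation character and its powers
-/

set_option autoImplicit false
set_option linter.style.haveILetI false
set_option linter.unusedSectionVars false

namespace Cfsg.Agent.PrimeBlock.PrimeDegree

open Cfsg.Agent.Characters Cfsg.Agent.Blocks Subgroup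
open Cfsg.Agent.Perm.PermModule
open scoped ComplexConjugate

universe u v

variable {G : Type u} [Group G] [Finite G] [IsSimpleGroup G] {α : Type v} [MulAction G α] [Finite α]
  {p : ℕ} [Fact p.Prime] {P : Sylow p G}

/-- The number of fixed points. -/
noncomputable def fixn (α : Type v) [MulAction G α] (g : G) : ℕ := Nat.card (MulAction.fixedBy α g)

/-- The fixed points less one. -/
noncomputable def val (α : Type v) [MulAction G α] (g : G) : ℤ := (fixn α g : ℤ) - 1

omit [IsSimpleGroup G] [Finite G] [Finite α] in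
theorem fixn_one : fixn α (1 : G) = Nat.card α := by
  rw [fixn, show MulAction.fixedBy α (1 : G) = Set.univ from
    Set.eq_univ_of_forall fun a => by simp, Nat.card_univ]

omit [IsSimpleGroup G] in
theorem fixn_power [FaithfulSMul G α] (hα : Nat.card α = p) {x : G} (hx : orderOf x = p) {i : ℕ}
    (hi : x ^ i ≠ 1) : fixn α (x ^ i) = 0 := by
  rw [fixn, Nat.card_eq_zero]
  refine Or.inl ⟨fun ⟨a, ha⟩ => hi ?_⟩
  refine FaithfulSMul.eq_of_smul_eq_smul (α := α) fun b => ?_
  obtain ⟨k, rfl⟩ := exists_pow_smul hα hx a b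
  rw [one_smul, ← mul_smul, ← pow_add, add_comm, pow_add, mul_smul, MulAction.mem_fixedBy.1 ha]

/-- The block at `p` and the reduced permutation character. -/
structure Data (α : Type v) [MulAction G α] (P : Sylow p G) where
  hG : ¬ IsMulCommutative G
  hC : Nat.card (centralizer ((P : Subgroup G) : Set G)) = p
  D : PBlock P
  ht : trivIrr G ∈ D.X
  hts : D.sgn (trivIrr G) = 1
  χ : Cfsg.IrrCharacter G
  hX : ∀ ψ, ψ ∈ D.X ∧ ψ ≠ trivIrr G ↔ ψ = χ
  hval : ∀ g : G, (χ : G → ℂ) g = (val α g : ℂ)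
  hsgn : D.sgn χ = -1
  hε : D.ε = -1
  hY : ∀ θ ∈ D.Y, deg θ + 2 = p
  he : D.e = 2
  hp5 : 5 ≤ p

omit [IsSimpleGroup G] in
theorem Data.erase_eq [DecidableEq (Cfsg.IrrCharacter G)] (S : Data α P) :
    S.D.X.erase (trivIrr G) = {S.χ} := by
  ext ψ
  rw [Finset.mem_erase, Finset.mem_singleton, and_comm, S.hX]

omit [IsSimpleGroup G] in
/-- The sum of a character over a subgroup of order `p`. -/
theorem sum_powers_eq {χ : G → ℂ} {x : G} {w : ℂ} (h : ∀ i ∈ (Finset.range p).erase 0, χ (x ^ i) = w) :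
    ∑ i ∈ Finset.range p, χ (x ^ i) = χ 1 + ((p : ℂ) - 1) * w := by
  rw [← Finset.add_sum_erase _ _ (Finset.mem_range.2 (Fact.out : p.Prime).pos), Finset.sum_congr rfl h,
    Finset.sum_const, Finset.card_erase_of_mem (Finset.mem_range.2 (Fact.out : p.Prime).pos),
    Finset.card_range, pow_zero, nsmul_eq_mul, Nat.cast_sub (Fact.out : p.Prime).one_le, Nat.cast_one]

theorem exists_data [FaithfulSMul G α] [MulAction.IsPretransitive G α] (hG : ¬ IsMulCommutative G)
    (hα : Nat.card α = p) (hp : 2 < p) (hP : Nat.card (P : Subgroup G) = p)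
    (hC : Nat.card (centralizer ((P : Subgroup G) : Set G)) = p)
    (hN : Nat.card (normalizer ((P : Subgroup G) : Set G)) = 2 * p) :
    Nonempty (Data α P) := by
  classical
  haveI := Fintype.ofFinite G
  haveI := Fintype.ofFinite α
  haveI := Fintype.ofFinite (Cfsg.IrrCharacter G)
  have hp0 : p.Prime := Fact.out
  have hpC : (p : ℂ) ≠ 0 := Nat.cast_ne_zero.2 hp0.ne_zero
  obtain ⟨D, ht, hts⟩ := exists_pblock' hG (by omega : p ≠ 2) P hP
  have he : D.e = 2 := by
    have := Brauer.card_normalizer D hC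
    rw [hN, mul_comm] at this
    exact (Nat.eq_of_mul_eq_mul_left hp0.pos this).symm
  obtain ⟨x, hx1, hx⟩ := D.exists_ne_one
  have hxo := D.orderOf_eq hx hx1
  haveI : Nonempty α := (Nat.card_pos_iff.1 (hα ▸ hp0.pos)).1
  choose μ hμ using fun χ : Cfsg.IrrCharacter G =>
    sum_powers (irr_isCharacter χ) hp0.ne_zero (D.x_pow hx)
  obtain ⟨n, hn⟩ := char_eq_sum_nat (G := G) (χ := permChar G α) (isCharacter_permChar α)
  have hπ : ∀ g : G, (fixn α g : ℂ) = ∑ χ : Cfsg.IrrCharacter G, (n χ : ℂ) * (χ : G → ℂ) g := fun g => by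
    have := congrFun hn g
    simpa [Finset.sum_apply, smul_eq_mul, permChar, fixn] using this
  have hn1 : n (trivIrr G) = 1 := by
    have h1 := classInner_sum_smul_irr (c := fun χ : Cfsg.IrrCharacter G => (n χ : ℂ)) Finset.univ
      (trivIrr G)
    rw [← hn, if_pos (Finset.mem_univ _)] at h1
    have h2 := classInner_permChar_one (G := G) (Ω := α)
    rw [show ((trivIrr G : Cfsg.IrrCharacter G) : G → ℂ) = fun _ => 1 from rfl, h2] at h1
    exact_mod_cast h1.symm
  have hμ1 : μ (trivIrr G) = 1 := by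
    have h := hμ (trivIrr G)
    simp only [trivIrr_coe, Finset.sum_const, Finset.card_range, nsmul_one] at h
    have : (p : ℂ) * ((1 : ℕ) : ℂ) = (p : ℂ) * (μ (trivIrr G) : ℂ) := by rw [Nat.cast_one, mul_one]; exact h
    exact_mod_cast (mul_left_cancel₀ hpC this).symm
  have hμn : ∑ χ ∈ Finset.univ.erase (trivIrr G), n χ * μ χ = 0 := by
    have h1 : (p : ℂ) * ((∑ χ : Cfsg.IrrCharacter G, n χ * μ χ : ℕ) : ℂ) = (p : ℂ) * ((1 : ℕ) : ℂ) := by
      have h2 : ∑ i ∈ Finset.range p, (fixn α (x ^ i) : ℂ) = p := by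
        rw [sum_powers_eq (p := p) (χ := fun g => (fixn α g : ℂ)) (w := 0) fun i hi => by
          rw [fixn_power hα hxo (D.pow_ne_one hx hx1 (D.not_dvd_of_mem_erase hi)), Nat.cast_zero],
          fixn_one, hα]
        ring
      rw [Nat.cast_one, mul_one]
      conv_rhs => rw [← h2]
      simp only [hπ]
      rw [Finset.sum_comm]
      push_cast
      rw [Finset.mul_sum]
      refine Finset.sum_congr rfl fun χ _ => ?_
      rw [← Finset.mul_sum, hμ χ]
      ring
    have h3 : ∑ χ : Cfsg.IrrCharacter G, n χ * μ χ = 1 := by exact_mod_cast mul_left_cancel₀ hpC h1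
    rw [← Finset.add_sum_erase _ _ (Finset.mem_univ (trivIrr G)), hn1, hμ1] at h3
    omega
  have hdeg : ∑ χ ∈ Finset.univ.erase (trivIrr G), n χ * deg χ + 1 = p := by
    have h1 := hπ 1
    rw [fixn_one, hα, ← Finset.add_sum_erase _ _ (Finset.mem_univ (trivIrr G)), hn1] at h1
    simp only [← deg_cast, deg_trivIrr] at h1
    have h2 : p = 1 * 1 + ∑ χ ∈ Finset.univ.erase (trivIrr G), n χ * deg χ := by exact_mod_cast h1
    omega
  have hμ0 : ∀ χ ∈ Finset.univ.erase (trivIrr G), n χ ≠ 0 → μ χ = 0 := fun χ hχ h0 =>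
    (Nat.mul_eq_zero.1 (Finset.sum_eq_zero_iff.1 hμn χ hχ)).resolve_left h0
  obtain ⟨θ₀, hθ₀⟩ := D.Y_nonempty
  have hθ₀ne : θ₀ ≠ trivIrr G := fun e => Finset.disjoint_left.1 D.disj ht (e ▸ hθ₀)
  have hθ₀1 := deg_ne_one hG hθ₀ne
  have hcardX : (D.X.erase (trivIrr G)).card = 1 := by
    rw [Finset.card_erase_of_mem ht, D.card_X, he]
  obtain ⟨χ, hχ⟩ := Finset.card_eq_one.1 hcardX
  have hχm : χ ∈ D.X ∧ χ ≠ trivIrr G := by
    have : χ ∈ D.X.erase (trivIrr G) := by rw [hχ]; simp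
    exact ⟨(Finset.mem_erase.1 this).2, (Finset.mem_erase.1 this).1⟩
  have hrel : D.ε * (deg θ₀ : ℤ) = 1 + D.sgn χ * (deg χ : ℤ) := by
    rw [D.rel_one hθ₀, ← Finset.add_sum_erase _ _ ht, hts, deg_trivIrr, hχ, Finset.sum_singleton]
    push_cast
    ring
  -- the constituents
  have hcons : ∀ ψ ∈ Finset.univ.erase (trivIrr G), n ψ ≠ 0 →
      (ψ = χ ∧ deg χ + 1 = p ∧ D.sgn χ = -1) ∨ ψ ∈ D.Y := by
    intro ψ hψ h0
    have hm := hμ0 ψ hψ h0
    have hne := (Finset.mem_erase.1 hψ).1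
    have hd0 : 0 < deg ψ := charDegree_pos ψ
    by_cases hB : ψ ∈ Cfsg.principalBlock D.M G
    · rcases (D.mem_block ψ).1 hB with hXm | hYm
      · left
        have : ψ ∈ D.X.erase (trivIrr G) := Finset.mem_erase.2 ⟨hne, hXm⟩
        rw [hχ, Finset.mem_singleton] at this
        subst this
        have h1 := hμ ψ
        rw [hm, sum_powers_eq (p := p) (w := (D.sgn ψ : ℂ)) fun i hi =>
          D.val_X' hXm (pow_mem hx i) (D.pow_ne_one hx hx1 (D.not_dvd_of_mem_erase hi)), ← deg_cast] at h1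
        have h2 : ((deg ψ : ℤ) + ((p : ℤ) - 1) * D.sgn ψ : ℤ) = 0 := by
          have : (((deg ψ : ℤ) + ((p : ℤ) - 1) * D.sgn ψ : ℤ) : ℂ) = ((0 : ℤ) : ℂ) := by
            push_cast at h1 ⊢
            linear_combination h1
          exact_mod_cast this
        rcases D.sgn_eq ψ hXm with e | e <;> rw [e] at h2
        · omega
        · exact ⟨rfl, by omega, e⟩
      · exact Or.inr hYm
    · exfalso
      have h1 := hμ ψ
      rw [hm, sum_powers_eq (p := p) (w := 0) fun i hi =>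
        D.eq_zero_of_notMem hC hB (pow_mem hx i) (D.pow_ne_one hx hx1 (D.not_dvd_of_mem_erase hi)),
        ← deg_cast] at h1
      push_cast at h1
      simp only [mul_zero, add_zero, Nat.cast_eq_zero] at h1
      omega
  have hsmall : ∀ ψ ∈ Finset.univ.erase (trivIrr G), n ψ ≠ 0 → n ψ * deg ψ + 1 ≤ p := fun ψ hψ h0 => by
    have := Finset.single_le_sum (f := fun ψ => n ψ * deg ψ) (fun _ _ => Nat.zero_le _) hψ
    omega
  have hχc : n χ ≠ 0 := by
    intro hcon
    obtain ⟨ψ, hψ, hψ0⟩ := Finset.exists_ne_zero_of_sum_ne_zero (s := Finset.univ.erase (trivIrr G))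
      (f := fun ψ => n ψ * deg ψ) (by omega)
    have h0 : n ψ ≠ 0 := left_ne_zero_of_mul hψ0
    rcases hcons ψ hψ h0 with ⟨rfl, -⟩ | hYm
    · exact h0 hcon
    have hlt : deg ψ < p := by
      have h1 := hsmall ψ hψ h0
      have := Nat.le_mul_of_pos_left (deg ψ) (Nat.pos_of_ne_zero h0)
      omega
    rcases D.degree_small hYm hlt with ⟨h2, h3⟩ | ⟨h2, -⟩ <;> rw [he] at h2
    · -- degree two
      have hdd : deg θ₀ = 2 := by rw [D.deg_Y_eq hθ₀ hYm, h2]
      rw [h3, hdd] at hrel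
      have h4 := deg_ne_one hG hχm.2
      have h5 : 0 < deg χ := charDegree_pos χ
      rcases D.sgn_eq χ hχm.1 with e | e <;> rw [e] at hrel <;> omega
    · -- every constituent has degree `p - 2`
      have hall : ∀ φ ∈ Finset.univ.erase (trivIrr G), n φ * deg φ = n φ * deg ψ := by
        intro φ hφ
        rcases Nat.eq_zero_or_pos (n φ) with e | e
        · rw [e, zero_mul, zero_mul]
        rcases hcons φ hφ e.ne' with ⟨rfl, -⟩ | hYφ
        · exact absurd hcon e.ne'
        · rw [D.deg_Y_eq hYφ hYm]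
      rw [Finset.sum_congr rfl hall, ← Finset.sum_mul] at hdeg
      have hψ1 := deg_ne_one hG (Finset.mem_erase.1 hψ).1
      rcases Nat.lt_or_ge (∑ φ ∈ Finset.univ.erase (trivIrr G), n φ) 2 with h | h
      · interval_cases (∑ φ ∈ Finset.univ.erase (trivIrr G), n φ) <;> omega
      · have := Nat.mul_le_mul_right (deg ψ) h
        omega
  obtain ⟨-, hdχ, hsχ⟩ := (hcons χ (Finset.mem_erase.2 ⟨hχm.2, Finset.mem_univ _⟩) hχc).resolve_right
    fun h => Finset.disjoint_left.1 D.disj hχm.1 h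
  have hχn : n χ = 1 := by
    have h1 := hsmall χ (Finset.mem_erase.2 ⟨hχm.2, Finset.mem_univ _⟩) hχc
    rcases Nat.lt_or_ge (n χ) 2 with h | h
    · omega
    · have := Nat.mul_le_mul_right (deg χ) h
      omega
  have hrest : ∀ ψ ∈ (Finset.univ.erase (trivIrr G)).erase χ, n ψ = 0 := by
    intro ψ hψ
    have h1 : ∑ ψ ∈ (Finset.univ.erase (trivIrr G)).erase χ, n ψ * deg ψ = 0 := by
      rw [← Finset.add_sum_erase _ _ (Finset.mem_erase.2 ⟨hχm.2, Finset.mem_univ χ⟩), hχn] at hdeg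
      omega
    have hd0 : 0 < deg ψ := charDegree_pos ψ
    exact (Nat.mul_eq_zero.1 (Finset.sum_eq_zero_iff.1 h1 ψ hψ)).resolve_right hd0.ne'
  rw [hsχ] at hrel
  have hθ₀0 : 0 < deg θ₀ := charDegree_pos θ₀
  have hεm : D.ε = -1 := by
    rcases D.ε_eq with e | e
    · rw [e] at hrel; omega
    · exact e
  rw [hεm] at hrel
  have hfp : deg θ₀ + 2 = p := by omega
  refine ⟨⟨hG, hC, D, ht, hts, χ, fun ψ => ?_, fun g => ?_, hsχ, hεm,
    fun θ hθ => by rw [D.deg_Y_eq hθ hθ₀]; exact hfp, he, ?_⟩⟩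
  · rw [and_comm, ← Finset.mem_erase, hχ, Finset.mem_singleton]
  · have h1 := hπ g
    rw [← Finset.add_sum_erase _ _ (Finset.mem_univ (trivIrr G)),
      ← Finset.add_sum_erase _ _ (Finset.mem_erase.2 ⟨hχm.2, Finset.mem_univ χ⟩),
      Finset.sum_eq_zero fun ψ hψ => by rw [hrest ψ hψ, Nat.cast_zero, zero_mul], hn1, hχn] at h1
    simp only [Nat.cast_one, one_mul, add_zero, trivIrr_coe] at h1
    rw [val]
    push_cast
    linear_combination -h1
  · rcases Nat.lt_or_ge p 5 with h | h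
    · exfalso
      interval_cases p
      · omega
      · exact absurd hp0 (by norm_num)
    · exact h

/-- Every involution fixes exactly one point. -/
theorem fixn_involution [FaithfulSMul G α] (hα : Nat.card α = p) (S : Data α P) {z : G}
    (hz : orderOf z = 2) : fixn α z = 1 := by
  classical
  haveI := Fintype.ofFinite G
  haveI := Fintype.ofFinite (Cfsg.IrrCharacter G)
  have hp0 : p.Prime := Fact.out
  have hp5 := S.hp5
  set D := S.D with hD
  obtain ⟨x, hx1, hx⟩ := D.exists_ne_one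
  have hxo := D.orderOf_eq hx hx1
  have hzp : ¬ p ∣ orderOf z := by
    rw [hz]; intro h; have := Nat.le_of_dvd two_pos h; omega
  have hχX : S.χ ∈ D.X.erase (trivIrr G) := by rw [hD, S.erase_eq]; simp
  have hχx : (S.χ : G → ℂ) x = -1 := by
    rw [D.val_X' (Finset.mem_erase.1 hχX).2 hx hx1, hD, S.hsgn]; simp
  have hχd : (S.χ : G → ℂ) 1 = (p : ℂ) - 1 := by
    rw [S.hval, val, fixn_one, hα]; push_cast; rfl
  obtain ⟨θ₀, hθ₀⟩ := D.Y_nonempty
  have hθz : ∀ θ ∈ D.Y, (θ : G → ℂ) z = (val α z : ℂ) - 1 := fun θ hθ => by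
    have h := D.rel θ hθ z hzp
    rw [hD, S.hε, ← Finset.add_sum_erase _ _ S.ht, S.hts, S.erase_eq, Finset.sum_singleton, S.hsgn, S.hval] at h
    simp only [trivIrr_coe] at h
    push_cast at h
    linear_combination -h
  have hθd : ∀ θ ∈ D.Y, (θ : G → ℂ) 1 = (p : ℂ) - 2 := fun θ hθ => by
    rw [← deg_cast]
    have h2 : ((deg θ + 2 : ℕ) : ℂ) = p := by rw [S.hY θ hθ]
    push_cast at h2
    linear_combination h2
  set a : ℤ := val α z with ha
  have hsum : ∑ χ : Cfsg.IrrCharacter G, (χ : G → ℂ) z * (χ : G → ℂ) z * conj ((χ : G → ℂ) x) /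
      (χ : G → ℂ) 1 = 1 - (a : ℂ) * a / ((p : ℂ) - 1) + ((a : ℂ) - 1) * ((a : ℂ) - 1) / ((p : ℂ) - 2) := by
    rw [Brauer.sum_split D S.ht, S.erase_eq, Finset.sum_singleton,
      Finset.sum_eq_zero (s := Brauer.outside D) fun ψ hψ => by
        rw [D.eq_zero_of_notMem S.hC ((Brauer.mem_outside D).1 hψ) hx hx1]
        simp,
      Finset.sum_congr (s₁ := D.Y) rfl fun θ hθ => show
        (θ : G → ℂ) z * (θ : G → ℂ) z * conj ((θ : G → ℂ) x) / (θ : G → ℂ) 1 =
          ((a : ℂ) - 1) * ((a : ℂ) - 1) / ((p : ℂ) - 2) * conj ((θ : G → ℂ) x) by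
            rw [hθz θ hθ, hθd θ hθ]; ring, ← Finset.mul_sum, ← map_sum, D.sum_Y hx hx1,
      hD, S.hε, S.hval, hχx, hχd, ← ha]
    simp only [trivIrr_coe, map_one, map_neg, Int.cast_neg, Int.cast_one, mul_one, add_zero]
    ring
  by_cases hex : ∃ w : G, IsConj (z * (w * z * w⁻¹)) x
  · obtain ⟨w, hw⟩ := hex
    obtain ⟨c, hc⟩ := isConj_iff.1 hw
    set u := c * z * c⁻¹ with hu
    set v := c * (w * z * w⁻¹) * c⁻¹ with hv
    have huv : u * v = x := by rw [← hc, hu, hv]; group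
    have hz2 : z * z = 1 := by
      have := pow_orderOf_eq_one z; rwa [hz, pow_two] at this
    have hconj : ∀ a : G, a * z * a⁻¹ * (a * z * a⁻¹) = 1 := fun a => by
      rw [show a * z * a⁻¹ * (a * z * a⁻¹) = a * (z * z) * a⁻¹ by group, hz2]; group
    have key : ∀ a b : G, a * a = 1 → b * b = 1 → a * (a * b) * a⁻¹ = (a * b)⁻¹ := fun a b ha hb => by
      rw [mul_inv_rev, inv_eq_of_mul_eq_one_right ha, inv_eq_of_mul_eq_one_right hb, ← mul_assoc, ha,
        one_mul]
    have hinv : u * x * u⁻¹ = x⁻¹ := by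
      rw [← huv]
      refine key u v (hconj c) ?_
      rw [hv, show c * (w * z * w⁻¹) * c⁻¹ = c * w * z * (c * w)⁻¹ by group]
      exact hconj (c * w)
    have h1 := card_fixedBy_of_inverts (α := α) hα (by omega) hxo hinv
    rw [hu] at h1
    rw [fixn, ← h1]
    exact Nat.card_congr {
      toFun := fun b => ⟨c • (b : α), by
        rw [MulAction.mem_fixedBy, mul_smul, mul_smul, inv_smul_smul, MulAction.mem_fixedBy.1 b.2]⟩
      invFun := fun b => ⟨c⁻¹ • (b : α), by
        have := MulAction.mem_fixedBy.1 b.2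
        rw [MulAction.mem_fixedBy]
        rw [mul_smul, mul_smul, ← eq_inv_smul_iff] at this
        exact this⟩
      left_inv := fun b => by simp
      right_inv := fun b => by simp }
  · exfalso
    push Not at hex
    have h0 : ∑ w : G, ∑ χ : Cfsg.IrrCharacter G, (χ : G → ℂ) (z * (w * z * w⁻¹)) * conj ((χ : G → ℂ) x) = 0 :=
      Finset.sum_eq_zero fun w _ => by rw [second_orthogonality, if_neg (hex w)]
    rw [Finset.sum_comm] at h0
    simp only [← Finset.sum_mul] at h0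
    rw [Finset.sum_congr rfl fun (χ : Cfsg.IrrCharacter G) _ => show (∑ w : G, (χ : G → ℂ) (z * (w * z * w⁻¹))) *
        conj ((χ : G → ℂ) x) = (Nat.card G : ℂ) *
          ((χ : G → ℂ) z * (χ : G → ℂ) z * conj ((χ : G → ℂ) x) / (χ : G → ℂ) 1) by
        rw [sum_mul_conjugates χ.2]; ring, ← Finset.mul_sum, hsum] at h0
    have h1 := (mul_eq_zero.1 h0).resolve_left natCard_ne_zero
    have hp1 : (p : ℂ) - 1 ≠ 0 := by
      rw [sub_ne_zero]; exact_mod_cast (show p ≠ 1 by omega)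
    have hp2 : (p : ℂ) - 2 ≠ 0 := by
      rw [sub_ne_zero]; exact_mod_cast (show p ≠ 2 by omega)
    field_simp at h1
    have h2 : (((p : ℤ) - 1 - a) ^ 2 : ℤ) = ((0 : ℤ) : ℂ) := by
      push_cast
      linear_combination h1
    have h3 : ((p : ℤ) - 1 - a) ^ 2 = 0 := by exact_mod_cast h2
    have h4 : fixn α z = p := by
      have := pow_eq_zero_iff two_ne_zero |>.1 h3
      rw [ha, val] at this
      omega
    have hall : MulAction.fixedBy α z = Set.univ := by
      refine Set.eq_of_subset_of_ncard_le (Set.subset_univ _) ?_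
      rw [Set.ncard_univ, hα, ← Nat.card_coe_set_eq, ← fixn, h4]
    have hz1 : z = 1 := FaithfulSMul.eq_of_smul_eq_smul (α := α) fun b => by
      rw [one_smul]
      exact MulAction.mem_fixedBy.1 (by rw [hall]; trivial)
    rw [hz1, orderOf_one] at hz
    omega

set_option maxHeartbeats 800000 in
/-- The third and fourth moments of the number of fixed points. -/
theorem moments [FaithfulSMul G α] [Fintype G] (hα : Nat.card α = p) (S : Data α P) :
    ∑ g : G, (fixn α g).descFactorial 3 = Nat.card G ∧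
    Nat.card G * ((p - 1) / 2 + 3) ≤ ∑ g : G, (fixn α g).descFactorial 3 * fixn α g := by
  classical
  haveI := Fintype.ofFinite (Cfsg.IrrCharacter G)
  have hp0 : p.Prime := Fact.out
  have hp5 := S.hp5
  have hpC : (p : ℂ) ≠ 0 := Nat.cast_ne_zero.2 hp0.ne_zero
  set D := S.D with hD
  obtain ⟨x, hx1, hx⟩ := D.exists_ne_one
  have hxo := D.orderOf_eq hx hx1
  set χ := S.χ with hχ
  have hχX : χ ∈ D.X ∧ χ ≠ trivIrr G := by
    have : χ ∈ D.X.erase (trivIrr G) := by rw [hD, S.erase_eq]; simp [hχ]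
    exact ⟨(Finset.mem_erase.1 this).2, (Finset.mem_erase.1 this).1⟩
  set h : ℕ := (p - 1) / 2 with hh
  have hcardY : D.Y.card = h := by rw [D.card_Y, hD, S.he]
  have h2h : 2 * h + 1 = p := by
    obtain ⟨k, hk⟩ := hp0.odd_of_ne_two (by omega)
    omega
  choose μ hμ using fun ψ : Cfsg.IrrCharacter G =>
    sum_powers (irr_isCharacter ψ) hp0.ne_zero (D.x_pow hx)
  set φ : G → ℂ := (χ : G → ℂ) * (χ : G → ℂ) with hφ
  obtain ⟨n, hn⟩ := char_eq_sum_nat (G := G) (χ := φ) (isCharacter_mul (irr_isCharacter χ) (irr_isCharacter χ))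
  have hφv : ∀ g : G, φ g = ((val α g * val α g : ℤ) : ℂ) := fun g => by
    simp only [hφ, Pi.mul_apply, hχ, S.hval]; push_cast; rfl
  have hsum : ∀ g : G, φ g = ∑ ψ : Cfsg.IrrCharacter G, (n ψ : ℂ) * (ψ : G → ℂ) g := fun g => by
    have := congrFun hn g
    simpa [Finset.sum_apply, smul_eq_mul] using this
  have hinner : ∀ ψ : Cfsg.IrrCharacter G, Cfsg.classInner φ (ψ : G → ℂ) = (n ψ : ℂ) := fun ψ => by
    have h1 := classInner_sum_smul_irr (c := fun χ : Cfsg.IrrCharacter G => (n χ : ℂ)) Finset.univ ψ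
    rwa [← hn, if_pos (Finset.mem_univ _)] at h1
  have hn1 : n (trivIrr G) = 1 := by
    have h1 := hinner (trivIrr G)
    have h2 : Cfsg.classInner φ ((trivIrr G : Cfsg.IrrCharacter G) : G → ℂ) =
        Cfsg.classInner (χ : G → ℂ) (χ : G → ℂ) := by
      rw [classInner_def, classInner_def]
      refine congrArg _ (Finset.sum_congr rfl fun g _ => ?_)
      simp only [hφ, Pi.mul_apply, trivIrr_coe, map_one, mul_one, hχ, S.hval, map_intCast]
    rw [h2, classInner_isIrr_self χ.2] at h1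
    exact_mod_cast h1.symm
  -- the fixed points of `P`
  have hμ1 : μ (trivIrr G) = 1 := by
    have h := hμ (trivIrr G)
    simp only [trivIrr_coe, Finset.sum_const, Finset.card_range, nsmul_one] at h
    have : (p : ℂ) * ((1 : ℕ) : ℂ) = (p : ℂ) * (μ (trivIrr G) : ℂ) := by rw [Nat.cast_one, mul_one]; exact h
    exact_mod_cast (mul_left_cancel₀ hpC this).symm
  have hcast2 : (p : ℂ) = 2 * (h : ℂ) + 1 := by exact_mod_cast h2h.symm
  have hχ1 : (χ : G → ℂ) 1 = (p : ℂ) - 1 := by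
    rw [hχ, S.hval, val, fixn_one, hα]; push_cast; rfl
  have hμχ : μ χ = 0 := by
    have h1 := hμ χ
    rw [sum_powers_eq (p := p) (w := -1) fun i hi => by
      rw [D.val_X' hχX.1 (pow_mem hx i) (D.pow_ne_one hx hx1 (D.not_dvd_of_mem_erase hi)), hD, hχ, S.hsgn]
      simp, hχ1] at h1
    have : (p : ℂ) * (μ χ : ℂ) = (p : ℂ) * ((0 : ℕ) : ℂ) := by rw [← h1]; push_cast; ring
    exact_mod_cast mul_left_cancel₀ hpC this
  have hμY : ∀ θ ∈ D.Y, μ θ = 1 := by
    have hle : ∀ θ ∈ D.Y, μ θ ≤ 1 := fun θ hθ => SmallCofactor.mult_one_le (irr_isCharacter θ)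
      (D.x_pow hx) (n := deg θ) (by rw [← deg_cast])
      (D.norm_small hθ (by have := S.hY θ hθ; omega) hx hx1) (hμ θ)
    have h2 : (p : ℂ) * ((∑ θ ∈ D.Y, μ θ : ℕ) : ℂ) = (p : ℂ) * (h : ℂ) := by
      push_cast
      rw [Finset.mul_sum, ← Finset.sum_congr rfl fun θ _ => hμ θ, Finset.sum_comm,
        range_split (p := p) D, Finset.sum_congr (s₁ := (Finset.range p).erase 0) rfl fun i hi =>
          D.sum_Y (pow_mem hx i) (D.pow_ne_one hx hx1 (D.not_dvd_of_mem_erase hi)),
        hD, S.hε, Finset.sum_const, Finset.card_erase_of_mem (Finset.mem_range.2 hp0.pos),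
        Finset.card_range, pow_zero, nsmul_eq_mul, Nat.cast_sub hp0.one_le]
      rw [Finset.sum_congr (s₁ := S.D.Y) rfl (g := fun _ => (p : ℂ) - 2) fun θ hθ => by
        rw [← deg_cast]
        have h2 : ((deg θ + 2 : ℕ) : ℂ) = p := by rw [S.hY θ hθ]
        push_cast at h2
        linear_combination h2, Finset.sum_const, ← hD, hcardY, nsmul_eq_mul]
      push_cast
      rw [hcast2]
      ring
    have h3 : ∑ θ ∈ D.Y, μ θ = ∑ θ ∈ D.Y, 1 := by
      rw [Finset.sum_const, smul_eq_mul, mul_one, hcardY]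
      exact_mod_cast mul_left_cancel₀ hpC h2
    exact fun θ hθ => (Finset.sum_eq_sum_iff_of_le hle).1 h3 θ hθ
  have hout : ∀ ψ ∈ Brauer.outside D, deg ψ = p * μ ψ := fun ψ hψ => by
    have h1 := hμ ψ
    rw [sum_powers_eq (p := p) (w := 0) fun i hi => D.eq_zero_of_notMem S.hC ((Brauer.mem_outside D).1 hψ)
      (pow_mem hx i) (D.pow_ne_one hx hx1 (D.not_dvd_of_mem_erase hi)), mul_zero, add_zero, ← deg_cast] at h1
    exact_mod_cast h1
  set A := n χ with hA
  set C := ∑ θ ∈ D.Y, n θ with hC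
  set O := ∑ ψ ∈ Brauer.outside D, n ψ * μ ψ with hO
  have hS : ((1 + C + O : ℕ) : ℂ) * (p : ℂ) = (p : ℂ) * ((p : ℂ) - 1) := by
    have h1 : ∑ i ∈ Finset.range p, φ (x ^ i) = (p : ℂ) * ((p : ℂ) - 1) := by
      rw [sum_powers_eq (p := p) (w := 1) fun i hi => by
        simp only [hφ, Pi.mul_apply]
        rw [D.val_X' hχX.1 (pow_mem hx i) (D.pow_ne_one hx hx1 (D.not_dvd_of_mem_erase hi)), hD, hχ, S.hsgn]
        simp]
      simp only [hφ, Pi.mul_apply]
      rw [hχ1]
      ring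
    rw [← h1, Finset.sum_congr rfl fun i _ => hsum (x ^ i), Finset.sum_comm, Brauer.sum_split D S.ht]
    simp only [← Finset.mul_sum, hμ]
    rw [hD, S.erase_eq, Finset.sum_singleton, ← hD, ← hχ, hμχ, hn1, hμ1,
      Finset.sum_congr (s₁ := D.Y) rfl (g := fun θ => (n θ : ℂ) * (p : ℂ)) fun θ hθ => by
        rw [hμY θ hθ, Nat.cast_one, mul_one]]
    simp only [hC, hO]
    push_cast
    simp only [add_mul, Finset.sum_mul]
    rw [Finset.sum_congr (s₁ := Brauer.outside D) rfl (g := fun ψ => (n ψ : ℂ) * ((p : ℂ) * (μ ψ : ℂ)))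
      fun ψ _ => by ring]
    ring
  have hdeg : ((1 + A * (p - 1) + C * (p - 2) + p * O : ℕ) : ℂ) = ((p - 1 : ℕ) : ℂ) * ((p - 1 : ℕ) : ℂ) := by
    have h1 := hsum 1
    rw [Brauer.sum_split D S.ht, hD, S.erase_eq, Finset.sum_singleton, ← hD, ← hχ, hn1] at h1
    simp only [hφ, Pi.mul_apply] at h1
    rw [hχ1, trivIrr_coe,
      Finset.sum_congr (s₁ := D.Y) rfl (g := fun θ => (n θ : ℂ) * ((p : ℂ) - 2)) (fun θ hθ => by
        have h2 : ((deg θ + 2 : ℕ) : ℂ) = p := by rw [S.hY θ hθ]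
        push_cast at h2
        rw [← deg_cast]
        linear_combination (n θ : ℂ) * h2),
      Finset.sum_congr (s₁ := Brauer.outside D) rfl (g := fun ψ => (p : ℂ) * ((n ψ : ℂ) * (μ ψ : ℂ)))
        (fun ψ hψ => by rw [← deg_cast, hout ψ hψ]; push_cast; ring),
      ← Finset.sum_mul, ← Finset.mul_sum] at h1
    simp only [hC, hO, hA]
    push_cast [Nat.cast_sub (show 1 ≤ p by omega), Nat.cast_sub (show 2 ≤ p by omega)]
    linear_combination -h1
  have hCO : 1 + C + O = p - 1 := by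
    have h1 : ((1 + C + O : ℕ) : ℂ) = ((p - 1 : ℕ) : ℂ) := by
      rw [Nat.cast_sub hp0.one_le, Nat.cast_one]
      refine mul_right_cancel₀ hpC ?_
      rw [hS]; ring
    exact_mod_cast h1
  have hdeg' : 1 + A * (p - 1) + C * (p - 2) + p * O = (p - 1) * (p - 1) := by exact_mod_cast hdeg
  have hAC : (A : ℤ) * h = C := by
    have e1 : ((p - 1 : ℕ) : ℤ) = 2 * (h : ℤ) := by omega
    have e2 : ((p - 2 : ℕ) : ℤ) = 2 * (h : ℤ) - 1 := by omega
    have e3 : (p : ℤ) = 2 * (h : ℤ) + 1 := by omega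
    have h1 : (((1 + A * (p - 1) + C * (p - 2) + p * O : ℕ)) : ℤ) = (((p - 1) * (p - 1) : ℕ) : ℤ) := by
      rw [hdeg']
    have h2 : (((1 + C + O : ℕ)) : ℤ) = ((p - 1 : ℕ) : ℤ) := by rw [hCO]
    push_cast at h1 h2
    rw [e1, e2, e3] at h1
    rw [e1] at h2
    refine mul_left_cancel₀ (two_ne_zero (α := ℤ)) ?_
    linear_combination h1 - (2 * (h : ℤ) + 1) * h2
  -- the moments
  have hm1 : ∑ g : G, val α g = 0 := by
    have h1 := classInner_isIrr_ne χ.2 (trivIrr G).2 (fun e => hχX.2 (Subtype.ext e))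
    rw [classInner_def] at h1
    simp only [trivIrr_coe, map_one, mul_one, hχ, S.hval] at h1
    have h2 := (mul_eq_zero.1 h1).resolve_left (inv_ne_zero natCard_ne_zero)
    exact_mod_cast h2
  have hm2 : ∑ g : G, val α g * val α g = Nat.card G := by
    have h1 := hinner (trivIrr G)
    rw [hn1, classInner_def] at h1
    simp only [trivIrr_coe, map_one, mul_one, hφv, Nat.cast_one] at h1
    rw [inv_mul_eq_one₀ natCard_ne_zero] at h1
    exact_mod_cast h1.symm
  have hm3 : ∑ g : G, val α g * val α g * val α g = Nat.card G * A := by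
    have h1 := hinner χ
    rw [classInner_def, inv_mul_eq_iff_eq_mul₀ natCard_ne_zero] at h1
    simp only [hφv, hχ, S.hval, map_intCast] at h1
    rw [hA, hχ]
    exact_mod_cast h1
  have hm4 : ∑ g : G, val α g * val α g * (val α g * val α g) =
      Nat.card G * ∑ ψ : Cfsg.IrrCharacter G, (n ψ : ℤ) * n ψ := by
    have h1 : Cfsg.classInner φ φ = ∑ ψ : Cfsg.IrrCharacter G, (n ψ : ℂ) * (n ψ : ℂ) := by
      conv_lhs => arg 2; rw [hn]
      rw [classInner_sum_right]
      refine Finset.sum_congr rfl fun ψ _ => ?_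
      rw [classInner_smul_right, hinner, map_natCast]
    rw [classInner_def, inv_mul_eq_iff_eq_mul₀ natCard_ne_zero] at h1
    simp only [hφv, map_intCast] at h1
    exact_mod_cast h1
  have hdf : ∀ g : G, (((fixn α g).descFactorial 3 : ℕ) : ℤ) = val α g * val α g * val α g - val α g := by
    intro g
    rw [val]
    obtain ⟨k, hk⟩ : ∃ k, fixn α g = k := ⟨_, rfl⟩
    rw [hk]
    rcases k with _ | _ | k
    · simp [Nat.descFactorial]
    · simp [Nat.descFactorial]
    · simp only [Nat.descFactorial_succ, Nat.descFactorial_zero]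
      push_cast
      ring
  have hpos : 0 < ∑ g : G, (fixn α g).descFactorial 3 := by
    refine lt_of_lt_of_le ?_ (Finset.single_le_sum (fun _ _ => Nat.zero_le _) (Finset.mem_univ (1 : G)))
    rw [fixn_one, hα]
    exact Nat.descFactorial_pos.2 (by omega)
  have hA1 : A = 1 := by
    have h1 : ((∑ g : G, (fixn α g).descFactorial 3 : ℕ) : ℤ) = Nat.card G * A := by
      push_cast
      rw [Finset.sum_congr rfl fun g _ => hdf g, Finset.sum_sub_distrib, hm3, hm1, sub_zero]
    have hA0 : A ≠ 0 := fun e => by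
      rw [e, Nat.cast_zero, mul_zero] at h1
      have : (0 : ℤ) < ((∑ g : G, (fixn α g).descFactorial 3 : ℕ) : ℤ) := by exact_mod_cast hpos
      omega
    by_contra hne
    have h3 : 2 * (h : ℤ) ≤ (A : ℤ) * h :=
      mul_le_mul_of_nonneg_right (by omega) (Int.natCast_nonneg h)
    omega
  rw [hA1] at hAC hm3
  refine ⟨?_, ?_⟩
  · have h1 : ((∑ g : G, (fixn α g).descFactorial 3 : ℕ) : ℤ) = (Nat.card G : ℤ) := by
      push_cast
      rw [Finset.sum_congr rfl fun g _ => hdf g, Finset.sum_sub_distrib, hm3, hm1, sub_zero]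
      simp
    exact_mod_cast h1
  have hlow : (h : ℤ) + 3 ≤ ∑ ψ : Cfsg.IrrCharacter G, (n ψ : ℤ) * n ψ := by
    have hsq : ∀ ψ, (n ψ : ℤ) ≤ (n ψ : ℤ) * n ψ := fun ψ => by
      exact_mod_cast Nat.le_mul_self (n ψ)
    have h1 : (h : ℤ) ≤ ∑ θ ∈ D.Y, (n θ : ℤ) * n θ := by
      calc (h : ℤ) = ((C : ℕ) : ℤ) := by rw [← hAC]; simp
        _ = ∑ θ ∈ D.Y, (n θ : ℤ) := by rw [hC]; push_cast; rfl
        _ ≤ _ := Finset.sum_le_sum fun θ _ => hsq θ
    have h2 : (1 : ℤ) ≤ ∑ ψ ∈ Brauer.outside D, (n ψ : ℤ) * n ψ := by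
      obtain ⟨ψ, hψ, hψ0⟩ := Finset.exists_ne_zero_of_sum_ne_zero (s := Brauer.outside D)
        (f := fun ψ => n ψ * μ ψ) (by rw [← hO]; omega)
      refine le_trans ?_ (Finset.single_le_sum (f := fun ψ => (n ψ : ℤ) * n ψ)
        (fun ψ _ => mul_self_nonneg _) hψ)
      refine le_trans ?_ (hsq ψ)
      have := Nat.pos_of_ne_zero (left_ne_zero_of_mul hψ0)
      omega
    have hc : ∀ F : Cfsg.IrrCharacter G → ℤ, ∑ ψ, F ψ = F (trivIrr G) + F χ + ∑ θ ∈ D.Y, F θ +
        ∑ ψ ∈ Brauer.outside D, F ψ := fun F => by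
      have h3 := Brauer.sum_split D S.ht (fun ψ => (F ψ : ℂ))
      rw [hD, S.erase_eq, Finset.sum_singleton, ← hD, ← hχ] at h3
      exact_mod_cast h3
    rw [hc, hn1, ← hA, hA1]
    push_cast
    linarith
  have h1 : ((∑ g : G, (fixn α g).descFactorial 3 * fixn α g : ℕ) : ℤ) =
      (Nat.card G : ℤ) * ∑ ψ : Cfsg.IrrCharacter G, (n ψ : ℤ) * n ψ := by
    push_cast
    rw [Finset.sum_congr rfl fun g _ => show (((fixn α g).descFactorial 3 : ℕ) : ℤ) * (fixn α g : ℤ) =
      val α g * val α g * (val α g * val α g) + val α g * val α g * val α g - val α g * val α g - val α g by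
        rw [hdf]; simp only [val]; ring,
      Finset.sum_sub_distrib, Finset.sum_sub_distrib, Finset.sum_add_distrib, hm1, hm2, hm3, hm4]
    push_cast
    ring
  have h2 := mul_le_mul_of_nonneg_left hlow (Int.natCast_nonneg (Nat.card G))
  rw [← h1] at h2
  exact_mod_cast h2

end Cfsg.Agent.PrimeBlock.PrimeDegree
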