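import Cfsg.Agent.Lib.PrimeBlock.Brauer.Main
import Cfsg.Agent.Lib.PrimeBlock.ThreePrimes

/-!
# Groups of prime degree `p` whose Sylow normalizer has order `2 p`: first properties
-/

set_option autoImplicit false
set_option linter.style.haveILetI false
set_option linter.unusedSectionVars false

namespace Cfsg.Agent.PrimeBlock.PrimeDegree

open Cfsg.Agent.SmallSimple Subgroup

universe u v

variable {G : Type u} [Group G] [Finite G] {α : Type v} [MulAction G α] [Finite α] {p : ℕ}
  [Fact p.Prime] {x : G}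

/-- An element of order `p` moves every point through all others. -/
theorem exists_pow_smul [FaithfulSMul G α] (hα : Nat.card α = p) (hx : orderOf x = p) (a b : α) :
    ∃ i : ℕ, x ^ i • a = b := by
  have hp : p.Prime := Fact.out
  obtain ⟨a₀, ha₀⟩ : ∃ a₀ : α, x • a₀ ≠ a₀ := by
    by_contra h
    push Not at h
    have : x = 1 := FaithfulSMul.eq_of_smul_eq_smul (α := α) fun c => by rw [h c, one_smul]
    rw [this, orderOf_one] at hx
    exact hp.ne_one hx.symm
  set H := zpowers x with hH
  have hdvd : Nat.card (MulAction.orbit H a₀) ∣ p := by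
    rw [← hx, ← Nat.card_zpowers, ← hH, Nat.card_congr (MulAction.orbitEquivQuotientStabilizer H a₀)]
    exact Subgroup.card_quotient_dvd_card _
  have hone : Nat.card (MulAction.orbit H a₀) ≠ 1 := by
    intro h
    haveI := (Nat.card_eq_one_iff_unique.1 h).1
    exact ha₀ (congrArg Subtype.val (Subsingleton.elim
      (⟨x • a₀, ⟨⟨x, mem_zpowers x⟩, rfl⟩⟩ : MulAction.orbit H a₀) ⟨a₀, MulAction.mem_orbit_self a₀⟩))
  have huniv : MulAction.orbit H a₀ = Set.univ := by
    refine Set.eq_of_subset_of_ncard_le (Set.subset_univ _) ?_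
    rw [Set.ncard_univ, hα, ← Nat.card_coe_set_eq, ((Nat.dvd_prime hp).1 hdvd).resolve_left hone]
  have hab : b ∈ MulAction.orbit H a := by
    have ha : a ∈ MulAction.orbit H a₀ := by rw [huniv]; trivial
    rw [MulAction.orbit_eq_iff.2 ha, huniv]
    trivial
  obtain ⟨⟨g, hg⟩, rfl⟩ := hab
  obtain ⟨i, rfl⟩ := (mem_powers_iff_mem_zpowers.2 hg)
  exact ⟨i, rfl⟩

/-- The group has no normal subgroups of order prime to `p`. -/
theorem eq_bot_of_coprime [FaithfulSMul G α] (hα : Nat.card α = p) (hx : orderOf x = p)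
    (K : Subgroup G) [K.Normal] (hK : ¬ p ∣ Nat.card K) : K = ⊥ := by
  classical
  have hp : p.Prime := Fact.out
  refine (eq_bot_iff_forall K).2 fun n hn => FaithfulSMul.eq_of_smul_eq_smul (α := α) fun a => ?_
  rw [one_smul]
  by_contra hne
  obtain ⟨i, hi⟩ := exists_pow_smul hα hx a (n • a)
  set y := x ^ i with hy
  have hy1 : orderOf y = p := by
    rw [hy, orderOf_pow' x (by rintro rfl; rw [hy, pow_zero, one_smul] at hi; exact hne hi.symm), hx,
      (hp.coprime_iff_not_dvd.2 ?_).gcd_eq_one, Nat.div_one]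
    intro hd
    obtain ⟨d, rfl⟩ := hd
    rw [hy, pow_mul, ← hx, pow_orderOf_eq_one, one_pow, one_smul] at hi
    exact hne hi.symm
  have hO : ∀ b ∈ MulAction.orbit K a, y • b ∈ MulAction.orbit K a := by
    rintro b ⟨⟨m, hm⟩, rfl⟩
    refine ⟨⟨y * m * y⁻¹ * n, mul_mem (Subgroup.Normal.conj_mem inferInstance m hm y) hn⟩, ?_⟩
    show (y * m * y⁻¹ * n) • a = y • m • a
    rw [mul_smul, ← hi, mul_smul, mul_smul, inv_smul_smul]
  have hpow : ∀ j : ℕ, y ^ j • a ∈ MulAction.orbit K a := fun j => by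
    induction j with
    | zero => rw [pow_zero, one_smul]; exact MulAction.mem_orbit_self a
    | succ j ih => rw [pow_succ', mul_smul]; exact hO _ ih
  have huniv : MulAction.orbit K a = Set.univ := Set.eq_univ_of_forall fun b => by
    obtain ⟨j, rfl⟩ := exists_pow_smul hα hy1 a b
    exact hpow j
  refine hK ?_
  have hcard : Nat.card (MulAction.orbit K a) = p := by rw [huniv, Nat.card_univ, hα]
  rw [← hcard, Nat.card_congr (MulAction.orbitEquivQuotientStabilizer K a)]
  exact Subgroup.card_quotient_dvd_card _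

/-- With a normalizer of order `2 p` the group is simple, or `P` is normal. -/
theorem isSimpleGroup [FaithfulSMul G α] (hα : Nat.card α = p) (P : Sylow p G)
    (hP : Nat.card (P : Subgroup G) = p)
    (hN : Nat.card (normalizer ((P : Subgroup G) : Set G)) = 2 * p)
    (hnn : ¬ (P : Subgroup G).Normal) : IsSimpleGroup G := by
  classical
  have hp : p.Prime := Fact.out
  haveI : Nontrivial (P : Subgroup G) :=
    Finite.one_lt_card_iff_nontrivial.1 (by rw [hP]; exact hp.one_lt)
  obtain ⟨⟨x, hxP⟩, hx1⟩ := exists_ne (1 : (P : Subgroup G))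
  have hx : orderOf x = p := by
    have hd := orderOf_dvd_natCard (⟨x, hxP⟩ : (P : Subgroup G))
    rw [hP, orderOf_mk] at hd
    exact ((Nat.dvd_prime hp).1 hd).resolve_left fun e => hx1 (Subtype.ext (orderOf_eq_one_iff.1 e))
  haveI : Nontrivial G := ⟨x, 1, fun e => hp.ne_one (by rw [← hx, e, orderOf_one])⟩
  refine ⟨fun H hH => ?_⟩
  by_cases hbot : H = ⊥
  · exact Or.inl hbot
  right
  have hpH : p ∣ Nat.card H := by
    by_contra h
    exact hbot (eq_bot_of_coprime hα hx H h)
  -- every Sylow subgroup lies in `H`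
  have hPH : (P : Subgroup G) ≤ H := by
    obtain ⟨⟨h, hh⟩, hho⟩ := exists_prime_orderOf_dvd_card' (G := H) p hpH
    rw [orderOf_mk] at hho
    obtain ⟨Q, hQ⟩ := (IsPGroup.of_card (p := p) (n := 1) (by rw [Nat.card_zpowers, hho, pow_one]) :
      IsPGroup p (zpowers h)).exists_le_sylow
    have hQc : Nat.card (Q : Subgroup G) = p := by
      rw [Q.card_eq_multiplicity, ← P.card_eq_multiplicity, hP]
    have hQH : (Q : Subgroup G) ≤ H := by
      rw [← eq_of_le_of_card_ge hQ (by rw [Nat.card_zpowers, hho, hQc])]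
      exact zpowers_le.2 hh
    obtain ⟨c, hc⟩ := MulAction.exists_smul_eq G Q P
    rw [← hc, Sylow.coe_subgroup_smul]
    rintro _ ⟨z, hz, rfl⟩
    exact hH.conj_mem z (hQH hz) c
  have hsup : normalizer ((P : Subgroup G) : Set G) ⊔ H = ⊤ := by
    haveI := hH
    have := Sylow.normalizer_sup_eq_top (N := H) (P.subtype hPH)
    rwa [Sylow.coe_subtype, Subgroup.map_subgroupOf_eq_of_le hPH] at this
  by_cases hNH : normalizer ((P : Subgroup G) : Set G) ≤ H
  · rw [sup_eq_right.2 hNH] at hsup
    exact hsup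
  exfalso
  -- otherwise `H` has a normal `p`-complement
  have hle : normalizer ((P : Subgroup G) : Set G) ⊓ H ≤ (P : Subgroup G) := by
    have hd : Nat.card ↥(normalizer ((P : Subgroup G) : Set G) ⊓ H) ∣ 2 * p :=
      hN ▸ card_dvd_of_le inf_le_left
    have hPle : (P : Subgroup G) ≤ normalizer ((P : Subgroup G) : Set G) ⊓ H :=
      le_inf le_normalizer hPH
    obtain ⟨c, hc⟩ := hP ▸ card_dvd_of_le hPle
    rw [hc, mul_comm 2 p] at hd
    rcases (Nat.dvd_prime Nat.prime_two).1 (Nat.dvd_of_mul_dvd_mul_left hp.pos hd) with e | e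
    · exact (eq_of_le_of_card_ge hPle (by rw [hc, e, mul_one, hP])).symm.le
    · exact absurd ((eq_of_le_of_card_ge inf_le_left (by rw [hc, e, hN, mul_comm])).ge.trans inf_le_right) hNH
  set PH : Sylow p H := P.subtype hPH with hPHdef
  have hcomm : normalizer ((PH : Subgroup H) : Set H) ≤ centralizer ((PH : Subgroup H) : Set H) := by
    intro y hy
    haveI : IsCyclic (P : Subgroup G) := isCyclic_of_prime_card hP
    have hyP : (y : G) ∈ (P : Subgroup G) := hle ⟨mem_normalizer_iff.2 fun z => by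
      constructor
      · intro hz
        exact ((mem_normalizer_iff.1 hy) ⟨z, hPH hz⟩).1 hz
      · intro hz
        have hzH : z ∈ H := by
          have h2 := mul_mem (mul_mem (inv_mem y.2) (hPH hz)) y.2
          simpa [mul_assoc] using h2
        exact ((mem_normalizer_iff.1 hy) ⟨z, hzH⟩).2 hz, y.2⟩
    letI := IsCyclic.commGroup (α := (P : Subgroup G))
    refine mem_centralizer_iff.2 fun z hz => Subtype.ext ?_
    have h := congrArg Subtype.val (mul_comm (⟨(z : G), hz⟩ : (P : Subgroup G)) ⟨(y : G), hyP⟩)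
    simpa only [Subgroup.coe_mul] using h
  set K := (MonoidHom.transferSylow PH hcomm).ker with hK
  have hKc : ¬ p ∣ Nat.card K := MonoidHom.not_dvd_card_ker_transferSylow PH hcomm
  -- the complement is normal in `G`
  haveI : (K.map H.subtype).Normal := ⟨by
    rintro _ ⟨k, hk, rfl⟩ g
    refine ⟨⟨g * (k : G) * g⁻¹, hH.conj_mem _ k.2 g⟩, ?_, rfl⟩
    show _ = _
    have ho : ¬ p ∣ orderOf (MonoidHom.transferSylow PH hcomm ⟨g * (k : G) * g⁻¹, hH.conj_mem _ k.2 g⟩) := by
      intro h
      have h1 := h.trans (orderOf_map_dvd _ _)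
      rw [orderOf_mk, show g * (k : G) * g⁻¹ = MulAut.conj g (k : G) from rfl,
        MulEquiv.orderOf_eq, Subgroup.orderOf_coe] at h1
      exact hKc (h1.trans (orderOf_mk k hk ▸ orderOf_dvd_natCard (⟨k, hk⟩ : K)))
    have hd := orderOf_dvd_natCard (MonoidHom.transferSylow PH hcomm ⟨g * (k : G) * g⁻¹, hH.conj_mem _ k.2 g⟩)
    rw [Sylow.card_eq_multiplicity] at hd
    obtain ⟨j, -, hj⟩ := (Nat.dvd_prime_pow hp).1 hd
    rcases Nat.eq_zero_or_pos j with rfl | hj0
    · exact orderOf_eq_one_iff.1 (by rw [hj, pow_zero])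
    · exact absurd (hj ▸ dvd_pow_self p hj0.ne') ho⟩
  have hK0 : K.map H.subtype = ⊥ := eq_bot_of_coprime hα hx _ (by
    rw [Subgroup.card_map_of_injective H.subtype_injective]; exact hKc)
  refine hnn ?_
  have hKb : K = ⊥ := (Subgroup.map_eq_bot_iff_of_injective _ H.subtype_injective).1 hK0
  have hcomp := MonoidHom.ker_transferSylow_isComplement' PH hcomm
  rw [← hK, hKb] at hcomp
  have htop : (PH : Subgroup H) = ⊤ := Subgroup.isComplement'_bot_left.1 hcomp
  have hHP : H = (P : Subgroup G) := le_antisymm (fun y hy => by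
    have : (⟨y, hy⟩ : H) ∈ (PH : Subgroup H) := by rw [htop]; trivial
    exact this) hPH
  exact hHP ▸ hH

/-- An element inverting an element of order `p` fixes exactly one point. -/
theorem card_fixedBy_of_inverts [FaithfulSMul G α] (hα : Nat.card α = p) (hp2 : p ≠ 2) (hx : orderOf x = p)
    {u : G} (hu : u * x * u⁻¹ = x⁻¹) : Nat.card (MulAction.fixedBy α u) = 1 := by
  classical
  have hp : p.Prime := Fact.out
  haveI : Nonempty α := (Nat.card_pos_iff.1 (hα ▸ hp.pos)).1
  obtain ⟨a⟩ := ‹Nonempty α›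
  haveI := Fact.mk hp
  obtain ⟨j, hj⟩ := exists_pow_smul hα hx a (u • a)
  have hcast : ∀ i i' : ℕ, x ^ i • a = x ^ i' • a ↔ (i : ZMod p) = i' := by
    have hinj : ∀ i : ℕ, x ^ i • a = a → (i : ZMod p) = 0 := fun i hi => by
      rw [ZMod.natCast_eq_zero_iff]
      by_contra hd
      have hall : ∀ b : α, x ^ i • b = b := fun b => by
        obtain ⟨k, rfl⟩ := exists_pow_smul hα hx a b
        rw [← mul_smul, ← pow_add, add_comm, pow_add, mul_smul, hi]
      exact hd (hx ▸ orderOf_dvd_of_pow_eq_one (FaithfulSMul.eq_of_smul_eq_smul (α := α)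
        fun b => by rw [hall b, one_smul]))
    intro i i'
    constructor
    · intro h
      rcases le_total i i' with hle | hle
      · have := hinj (i' - i) (by
          apply MulAction.injective (x ^ i)
          show x ^ i • x ^ (i' - i) • a = x ^ i • a
          rw [← mul_smul, ← pow_add, Nat.add_sub_cancel' hle, h])
        rw [Nat.cast_sub hle] at this
        linear_combination -this
      · have := hinj (i - i') (by
          apply MulAction.injective (x ^ i')
          show x ^ i' • x ^ (i - i') • a = x ^ i' • a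
          rw [← mul_smul, ← pow_add, Nat.add_sub_cancel' hle, h])
        rw [Nat.cast_sub hle] at this
        linear_combination this
    · intro h
      rw [← pow_mod_orderOf x i, ← pow_mod_orderOf x i', hx]
      rw [(ZMod.natCast_eq_natCast_iff' i i' p).1 h]
  have hup : ∀ i : ℕ, u * x ^ i = (x ^ i)⁻¹ * u := fun i => by
    rw [← inv_pow, ← hu, conj_pow]
    group
  have hfix : ∀ i : ℕ, x ^ i • a ∈ MulAction.fixedBy α u ↔ 2 * (i : ZMod p) = j := fun i => by
    rw [MulAction.mem_fixedBy, ← mul_smul, hup, mul_smul, ← hj, inv_smul_eq_iff, ← mul_smul, ← pow_add,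
      hcast, Nat.cast_add]
    constructor <;> intro h <;> linear_combination -h
  have h2 : (2 : ZMod p) ≠ 0 := by
    intro h
    have h' : ((2 : ℕ) : ZMod p) = 0 := by exact_mod_cast h
    exact hp2 ((Nat.prime_dvd_prime_iff_eq hp Nat.prime_two).1 ((ZMod.natCast_eq_zero_iff 2 p).1 h'))
  obtain ⟨i₀, hi₀⟩ := ZMod.natCast_zmod_surjective ((j : ZMod p) * 2⁻¹)
  rw [Nat.card_eq_one_iff_unique]
  refine ⟨⟨fun ⟨b, hb⟩ ⟨b', hb'⟩ => Subtype.ext ?_⟩, ⟨⟨x ^ i₀ • a, (hfix i₀).2 ?_⟩⟩⟩
  · obtain ⟨k, rfl⟩ := exists_pow_smul hα hx a b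
    obtain ⟨k', rfl⟩ := exists_pow_smul hα hx a b'
    exact (hcast k k').2 (mul_left_cancel₀ h2 (((hfix k).1 hb).trans ((hfix k').1 hb').symm))
  · rw [hi₀]
    field_simp

end Cfsg.Agent.PrimeBlock.PrimeDegree
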