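import Cfsg.Agent.Lib.PrimeBlock.PrimeDegree.Count
import Cfsg.Agent.Lib.PrimeBlock.Brauer.CubePerfect
import Cfsg.Agent.Lib.Classical.GL2
import Cfsg.Agent.S0494

/-!
# Groups of prime degree `p` with a Sylow normalizer of order `2 p`
-/

set_option autoImplicit false
set_option linter.style.haveILetI false
set_option linter.unusedSectionVars false

namespace Cfsg.Agent.PrimeBlock.PrimeDegree

open Cfsg.Agent.SmallSimple Subgroup

universe u v

variable {G : Type u} [Group G] [Finite G] {α : Type v} [MulAction G α] [Finite α] {p : ℕ}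
  [Fact p.Prime]

/-- A simple group of order `60` is `SL₂(4)`. -/
theorem sl_four_of_card [IsSimpleGroup G] (h : Nat.card G = 60) :
    ∃ (F : Type) (_ : Field F) (_ : Fintype F), Fintype.card F = 4 ∧
      Nonempty (G ≃* Matrix.SpecialLinearGroup (Fin 2) F) := by
  haveI : Fact (Nat.Prime 2) := ⟨Nat.prime_two⟩
  letI := Fintype.ofFinite (GaloisField 2 2)
  have hF : Fintype.card (GaloisField 2 2) = 2 ^ 2 := by
    rw [← Nat.card_eq_fintype_card, GaloisField.card 2 2 two_ne_zero]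
  refine ⟨GaloisField 2 2, inferInstance, inferInstance, by rw [hF]; norm_num, ?_⟩
  obtain ⟨e₁⟩ := Brauer.sl_equiv_psl (GaloisField 2 2) two_ne_zero hF
  haveI : IsSimpleGroup (Matrix.ProjectiveSpecialLinearGroup (Fin 2) (GaloisField 2 2)) :=
    Classical.Linear.isSimpleGroup_PSL_fin le_rfl fun _ => by rw [hF]; norm_num
  have hc : Nat.card (Matrix.ProjectiveSpecialLinearGroup (Fin 2) (GaloisField 2 2)) = 60 := by
    rw [Nat.card_congr e₁.toEquiv, Classical.GL2.natCard_SL_two, hF]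
    norm_num
  obtain ⟨a⟩ := Cfsg.Agent.S0494.result h
  obtain ⟨c⟩ := Cfsg.Agent.S0494.result hc
  exact ⟨a.trans (c.symm.trans e₁)⟩

set_option maxHeartbeats 400000 in
theorem normal_or_sl_two [FaithfulSMul G α] (hp : 2 < p) (hα : Nat.card α = p) (P : Sylow p G)
    (hN : Nat.card (normalizer ((P : Subgroup G) : Set G)) = 2 * p) :
    (P : Subgroup G).Normal ∨ ∃ (a : ℕ) (F : Type) (_ : Field F) (_ : Fintype F),
      p = 2 ^ a + 1 ∧ Fintype.card F = 2 ^ a ∧ Nonempty (G ≃* Matrix.SpecialLinearGroup (Fin 2) F) := by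
  classical
  haveI := Fintype.ofFinite G
  have hp0 : p.Prime := Fact.out
  by_cases hnn : (P : Subgroup G).Normal
  · exact Or.inl hnn
  right
  have hP : Nat.card (P : Subgroup G) = p := by
    have hd : Nat.card (P : Subgroup G) ∣ 2 * p := hN ▸ card_dvd_of_le le_normalizer
    obtain ⟨j, hj⟩ := IsPGroup.iff_card.1 P.2
    rw [hj] at hd ⊢
    rcases j with _ | _ | j
    · exfalso
      refine hnn ?_
      have hbot : (P : Subgroup G) = ⊥ := Subgroup.card_eq_one.1 (by rw [hj, pow_zero])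
      rw [hbot]
      infer_instance
    · rw [pow_one]
    · exfalso
      rw [pow_succ, mul_comm 2 p, mul_comm (p ^ (j + 1)) p] at hd
      have h2 : p ∣ 2 := (dvd_pow_self p (by omega)).trans (Nat.dvd_of_mul_dvd_mul_left hp0.pos hd)
      have := Nat.le_of_dvd two_pos h2
      omega
  haveI : Nontrivial (P : Subgroup G) :=
    Finite.one_lt_card_iff_nontrivial.1 (by rw [hP]; exact hp0.one_lt)
  obtain ⟨⟨x, hxP⟩, hx1⟩ := exists_ne (1 : (P : Subgroup G))
  have hx : orderOf x = p := by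
    have hd := orderOf_dvd_natCard (⟨x, hxP⟩ : (P : Subgroup G))
    rw [hP, orderOf_mk] at hd
    exact ((Nat.dvd_prime hp0).1 hd).resolve_left fun e => hx1 (Subtype.ext (orderOf_eq_one_iff.1 e))
  haveI : MulAction.IsPretransitive G α := ⟨fun a b => by
    obtain ⟨i, hi⟩ := exists_pow_smul hα hx a b
    exact ⟨x ^ i, hi⟩⟩
  haveI := isSimpleGroup hα P hP hN hnn
  have hG : ¬ IsMulCommutative G := fun h => hnn ⟨fun n hn g => by
    rwa [h.is_comm.comm g n, mul_assoc, mul_inv_cancel, mul_one]⟩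
  obtain ⟨e, -, he1, hNe, hCd⟩ := Centralize.centralizer_data hG P hP
  have hC : Nat.card (centralizer ((P : Subgroup G) : Set G)) = p := by
    obtain ⟨c, hc⟩ := hCd
    rw [hN, hc, mul_assoc, mul_comm 2 p] at hNe
    have h2 : c * e = 2 := (Nat.eq_of_mul_eq_mul_left hp0.pos hNe).symm
    rcases (Nat.dvd_prime Nat.prime_two).1 (h2 ▸ dvd_mul_right c e) with rfl | rfl
    · rw [hc, mul_one]
    · omega
  obtain ⟨S⟩ := exists_data (α := α) hG hα hp hP hC hN
  have hp5 := S.hp5
  have h2h : 2 * ((p - 1) / 2) + 1 = p := by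
    obtain ⟨k, hk⟩ := hp0.odd_of_ne_two (by omega)
    omega
  obtain ⟨hm3, hm4⟩ := moments hα S
  have hcard := card_eq hα hp5 (fun z hz => fixn_involution hα S hz) hm3 h2h hm4
  obtain ⟨r, hr⟩ : ∃ r, Nat.card (Sylow p G) = 1 + r * p := by
    obtain ⟨c, hc⟩ := (Nat.modEq_iff_dvd' Nat.card_pos).1 (card_sylow_modEq_one p G).symm
    exact ⟨c, by have := Nat.card_pos (α := Sylow p G); rw [mul_comm c p]; omega⟩
  have hn : 2 * (1 + r * p) = (p - 1) * (p - 2) := by
    have h1 := Basic.card_normalizer_mul P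
    rw [hN, hr, hcard] at h1
    refine Nat.eq_of_mul_eq_mul_left hp0.pos ?_
    rw [← mul_assoc p (p - 1), ← h1]
    ring
  have h2r : 2 * r ≤ p + 2 := by
    obtain ⟨t, ht⟩ : ∃ t, p = t + 3 := ⟨p - 3, by omega⟩
    rw [show p - 1 = t + 2 by omega, show p - 2 = t + 1 by omega] at hn
    have : 2 * r * p = t * p := by
      generalize hq : 2 * r * p = z
      have h3 : 2 * (1 + r * p) = 2 + z := by rw [← hq]; ring
      rw [ht]
      rw [h3] at hn
      linarith
    have := Nat.eq_of_mul_eq_mul_right hp0.pos this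
    omega
  rcases Brauer.brauer hG P hP hC hr (Brauer.not_third h2r) with ⟨F, iF, iFt, hF, -, ⟨ψ⟩⟩ | ⟨m, F, iF, iFt, hF, hpm, -, ⟨ψ⟩⟩
  · -- `p = 5`
    have hp5' : p = 5 := by
      have h1 := Classical.SmallIso.natCard_pslTwo F
      rw [Classical.GL2.natCard_SL_two, hF, ← Nat.card_congr ψ.toEquiv, hcard] at h1
      have hg : Nat.gcd 2 (p - 1) = 2 := Nat.gcd_eq_left (by omega)
      rw [hg] at h1
      have h3 : p * (p - 1) * (2 * (p - 2)) = p * (p - 1) * (p + 1) := by linarith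
      have := Nat.eq_of_mul_eq_mul_left (Nat.mul_pos hp0.pos (by omega)) h3
      omega
    subst hp5'
    obtain ⟨K, iK, iKt, hK, hiso⟩ := sl_four_of_card (G := G) (by rw [hcard])
    exact ⟨2, K, iK, iKt, rfl, hK, hiso⟩
  · have hm : m ≠ 0 := by
      rintro rfl
      rw [pow_zero] at hpm
      omega
    obtain ⟨e₁⟩ := Brauer.sl_equiv_psl F hm hF
    exact ⟨m, F, iF, iFt, hpm, hF, ⟨ψ.trans e₁⟩⟩

end Cfsg.Agent.PrimeBlock.PrimeDegree
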