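import Cfsg.Agent.Lib.PrimeBlock.PrimeDegree.Char

/-!
# Prime degree, normalizer of order `2 p`: the stabilizer of three points is trivial
-/

set_option autoImplicit false
set_option linter.style.haveILetI false
set_option linter.unusedSectionVars false

namespace Cfsg.Agent.PrimeBlock.PrimeDegree

universe u v

variable {G : Type u} [Group G] [Finite G] {α : Type v} [MulAction G α] [Finite α] {p : ℕ}

/-- A triple of distinct points. -/
noncomputable def triple {a b c : α} (hab : a ≠ b) (hac : a ≠ c) (hbc : b ≠ c) : Fin 3 ↪ α :=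
  ⟨![a, b, c], fun i j h => by
    fin_cases i <;> fin_cases j <;> simp_all [Ne.symm hab, Ne.symm hac, Ne.symm hbc]⟩

/-- The points fixed by the stabilizer of a triple. -/
noncomputable def blockFix (G : Type u) [Group G] [MulAction G α] [Fintype α] (x : Fin 3 ↪ α) : Finset α :=
  open _root_.Classical in Finset.univ.filter fun d => ∀ g ∈ MulAction.stabilizer G x, g • d = d

theorem mem_blockFix [Fintype α] {x : Fin 3 ↪ α} {d : α} :
    d ∈ blockFix G x ↔ ∀ g ∈ MulAction.stabilizer G x, g • d = d := by simp [blockFix]

theorem apply_mem_blockFix [Fintype α] (x : Fin 3 ↪ α) (i : Fin 3) : x i ∈ blockFix G x :=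
  mem_blockFix.2 fun g hg => by
    have := DFunLike.congr_fun (MulAction.mem_stabilizer_iff.1 hg) i
    simpa using this

theorem card_fixedBy_triples [Fintype α] (g : G) :
    Nat.card (MulAction.fixedBy (Fin 3 ↪ α) g) = (fixn α g).descFactorial 3 := by
  classical
  have e : MulAction.fixedBy (Fin 3 ↪ α) g ≃ (Fin 3 ↪ MulAction.fixedBy α g) :=
    { toFun := fun f => ⟨fun i => ⟨(f : Fin 3 ↪ α) i, by
          have := DFunLike.congr_fun (MulAction.mem_fixedBy.1 f.2) i
          simpa using this⟩, fun i j h => (f : Fin 3 ↪ α).injective (congrArg Subtype.val h)⟩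
      invFun := fun f => ⟨f.trans (Function.Embedding.subtype _), by
          ext i
          exact (f i).2⟩
      left_inv := fun f => by ext i; rfl
      right_inv := fun f => by ext i; rfl }
  rw [Nat.card_congr e, Nat.card_eq_fintype_card, Fintype.card_embedding_eq, Fintype.card_fin, fixn,
    Nat.card_eq_fintype_card]

/-- The order is `p (p - 1) (p - 2)`. -/
theorem card_eq [FaithfulSMul G α] [Fintype G] (hα : Nat.card α = p) (hp : 5 ≤ p)
    (hinv : ∀ z : G, orderOf z = 2 → fixn α z = 1)
    (h3 : ∑ g : G, (fixn α g).descFactorial 3 = Nat.card G)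
    {h : ℕ} (hh : 2 * h + 1 = p)
    (h4 : Nat.card G * (h + 3) ≤ ∑ g : G, (fixn α g).descFactorial 3 * fixn α g) :
    Nat.card G = p * (p - 1) * (p - 2) := by
  classical
  haveI := Fintype.ofFinite α
  have hcardα : Fintype.card α = p := by rw [← Nat.card_eq_fintype_card, hα]
  -- transitivity on triples
  haveI : MulAction.IsPretransitive G (Fin 3 ↪ α) := by
    have hb := MulAction.sum_card_fixedBy_eq_card_orbits_mul_card_group G (Fin 3 ↪ α)
    simp only [← Nat.card_eq_fintype_card, card_fixedBy_triples] at hb
    rw [h3] at hb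
    nth_rw 1 [← one_mul (Nat.card G)] at hb
    have h1 := (Nat.eq_of_mul_eq_mul_right Nat.card_pos hb).symm
    exact (MulAction.pretransitive_iff_subsingleton_quotient G _).2
      (Nat.card_eq_one_iff_unique.1 h1).1
  obtain ⟨x₀⟩ : Nonempty (Fin 3 ↪ α) := Function.Embedding.nonempty_of_card_le (by
    rw [Fintype.card_fin, hcardα]; omega)
  haveI : Nonempty (Fin 3 ↪ α) := ⟨x₀⟩
  set F : (Fin 3 ↪ α) → Subgroup G := fun x => MulAction.stabilizer G x with hF
  have hmul : ∀ x : Fin 3 ↪ α, Nat.card (Fin 3 ↪ α) * Nat.card (F x) = Nat.card G := fun x => by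
    rw [← MulAction.index_stabilizer_of_transitive G x, mul_comm]
    exact Subgroup.card_mul_index _
  have hcardF : ∀ x, Nat.card (F x) = Nat.card (F x₀) := fun x =>
    Nat.eq_of_mul_eq_mul_left (Nat.card_pos (α := Fin 3 ↪ α)) ((hmul x).trans (hmul x₀).symm)
  set k := (blockFix G x₀).card with hk
  have hcardB : ∀ x : Fin 3 ↪ α, (blockFix G x).card = k := by
    intro x
    obtain ⟨g, rfl⟩ := MulAction.exists_smul_eq G x₀ x
    rw [hk, ← Finset.card_map (MulAction.toPerm g).toEmbedding (s := blockFix G x₀)]
    congr 1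
    ext d
    simp only [Finset.mem_map_equiv, mem_blockFix, MulAction.mem_stabilizer_iff, MulAction.toPerm_symm_apply]
    constructor
    · intro hd f hf
      have := hd (g * f * g⁻¹) (by rw [mul_smul, mul_smul, inv_smul_smul, hf])
      rw [mul_smul, mul_smul, smul_eq_iff_eq_inv_smul] at this
      exact this
    · intro hd f hf
      have h1 : (g⁻¹ * f * g) • x₀ = x₀ := by rw [mul_smul, mul_smul, hf, inv_smul_smul]
      have := hd _ h1
      rw [mul_smul, mul_smul, smul_inv_smul, smul_left_cancel_iff] at this
      exact this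
  -- stabilizers of triples have odd order
  have hodd : ∀ x : Fin 3 ↪ α, ¬ 2 ∣ Nat.card (F x) := by
    intro x hd
    haveI := Fact.mk Nat.prime_two
    obtain ⟨⟨z, hz⟩, hzo⟩ := exists_prime_orderOf_dvd_card' (G := F x) 2 hd
    rw [Subgroup.orderOf_mk] at hzo
    have h1 := hinv z hzo
    have h2 : 1 ≤ ((fixn α z).descFactorial 3) := by
      rw [← card_fixedBy_triples z]
      exact Nat.card_pos_iff.2 ⟨⟨⟨x, hz⟩⟩, inferInstance⟩
    rw [h1] at h2
    simp [Nat.descFactorial] at h2
  -- counting
  have hbound : ∀ x : Fin 3 ↪ α,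
      3 * ∑ g ∈ Finset.univ.filter (fun g : G => g • x = x), fixn α g ≤ (2 * k + p) * Nat.card (F x) := by
    intro x
    have hFc : Nat.card (F x) = (Finset.univ.filter fun g : G => g • x = x).card := by
      rw [Nat.card_eq_fintype_card, ← Fintype.card_subtype]
      exact Fintype.card_congr (Equiv.subtypeEquivRight fun g => MulAction.mem_stabilizer_iff)
    have hswap : ∑ g ∈ Finset.univ.filter (fun g : G => g • x = x), fixn α g =
        ∑ d : α, ((Finset.univ.filter fun g : G => g • x = x).filter fun g => g • d = d).card := by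
      simp only [fixn, Nat.card_eq_fintype_card, Fintype.card_subtype, MulAction.mem_fixedBy,
        Finset.card_filter]
      exact Finset.sum_comm
    have hterm : ∀ d : α, 3 * ((Finset.univ.filter fun g : G => g • x = x).filter fun g => g • d = d).card ≤
        (if d ∈ blockFix G x then 3 else 1) * Nat.card (F x) := by
      intro d
      rw [hFc]
      by_cases hd : d ∈ blockFix G x
      · rw [if_pos hd]
        exact Nat.mul_le_mul_left 3 (Finset.card_filter_le _ _)
      · rw [if_neg hd, one_mul, ← hFc]
        set H := F x ⊓ MulAction.stabilizer G d with hH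
        have hHc : Nat.card H = ((Finset.univ.filter fun g : G => g • x = x).filter fun g => g • d = d).card := by
          rw [Nat.card_eq_fintype_card, Finset.filter_filter, ← Fintype.card_subtype]
          exact Fintype.card_congr (Equiv.subtypeEquivRight fun g => by
            simp [hH, hF, Subgroup.mem_inf])
        rw [← hHc]
        obtain ⟨c, hc⟩ := Subgroup.card_dvd_of_le (show H ≤ F x from inf_le_left)
        rw [hc, mul_comm 3]
        refine Nat.mul_le_mul_left _ ?_
        by_contra hlt
        rcases (show c = 0 ∨ c = 1 ∨ c = 2 by omega) with rfl | rfl | rfl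
        · have := Nat.card_pos (α := F x); omega
        · rw [mul_one] at hc
          refine hd (mem_blockFix.2 fun g hg => ?_)
          have heq := Subgroup.eq_of_le_of_card_ge (show H ≤ F x from inf_le_left) hc.le
          exact MulAction.mem_stabilizer_iff.1 (show g ∈ H by rw [heq]; exact hg).2
        · exact hodd x (hc ▸ dvd_mul_left 2 _)
    rw [hswap, Finset.mul_sum]
    refine (Finset.sum_le_sum fun d _ => hterm d).trans (le_of_eq ?_)
    rw [← Finset.sum_mul, Finset.sum_ite]
    simp only [Finset.sum_const, smul_eq_mul, mul_one, Finset.filter_univ_mem]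
    rw [hcardB x]
    have h1 := Finset.card_filter_add_card_filter_not (s := (Finset.univ : Finset α)) (fun d => d ∈ blockFix G x)
    rw [Finset.filter_univ_mem, Finset.card_univ, hcardα, hcardB x] at h1
    congr 1
    omega
  have htotal : 3 * ∑ g : G, (fixn α g).descFactorial 3 * fixn α g ≤ (2 * k + p) * Nat.card G := by
    have h1 : ∑ g : G, (fixn α g).descFactorial 3 * fixn α g =
        ∑ x : Fin 3 ↪ α, ∑ g ∈ Finset.univ.filter (fun g : G => g • x = x), fixn α g := by
      simp only [← card_fixedBy_triples, Nat.card_eq_fintype_card (α := MulAction.fixedBy (Fin 3 ↪ α) _),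
        Fintype.card_subtype, MulAction.mem_fixedBy, Finset.card_filter, Finset.sum_mul, Finset.sum_filter,
        ite_mul, one_mul, zero_mul]
      exact Finset.sum_comm
    rw [h1, Finset.mul_sum]
    refine (Finset.sum_le_sum fun x _ => hbound x).trans (le_of_eq ?_)
    rw [Finset.sum_congr rfl fun x _ => by rw [hcardF x], Finset.sum_const, Finset.card_univ,
      ← Nat.card_eq_fintype_card, smul_eq_mul, ← hmul x₀]
    ring
  have h4k : p + 15 ≤ 4 * k := by
    have h1 := (Nat.mul_le_mul_left 3 h4).trans htotal
    rw [mul_comm (2 * k + p), ← mul_assoc, mul_comm 3, mul_assoc] at h1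
    have := Nat.le_of_mul_le_mul_left h1 Nat.card_pos
    omega
  -- the fixed points are everything
  have hblock : ∀ x y : Fin 3 ↪ α, (∀ i, y i ∈ blockFix G x) → blockFix G y = blockFix G x := by
    intro x y hy
    have hle : F x ≤ F y := fun g hg => MulAction.mem_stabilizer_iff.2
      (Function.Embedding.ext fun i => mem_blockFix.1 (hy i) g hg)
    have heq := Subgroup.eq_of_le_of_card_ge hle ((hcardF y).trans (hcardF x).symm).le
    ext d
    simp only [mem_blockFix]
    simp only [hF] at heq
    rw [heq]
  have huniv : blockFix G x₀ = Finset.univ := by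
    by_contra hne
    obtain ⟨e, he⟩ : ∃ e, e ∉ blockFix G x₀ := by
      by_contra hh
      push Not at hh
      exact hne (Finset.eq_univ_of_forall hh)
    set a := x₀ 0 with ha
    have haB : a ∈ blockFix G x₀ := apply_mem_blockFix _ _
    have hae : a ≠ e := fun h => he (h ▸ haB)
    set T := (blockFix G x₀).erase a with hT
    have hTp : ∀ b ∈ T, b ≠ a ∧ e ≠ b ∧ b ∈ blockFix G x₀ := fun b hb =>
      ⟨(Finset.mem_erase.1 hb).1, fun h => he (h ▸ (Finset.mem_erase.1 hb).2), (Finset.mem_erase.1 hb).2⟩
    set B : α → Finset α := fun b => if hb : b ∈ T then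
      blockFix G (triple hae (hTp b hb).1.symm (hTp b hb).2.1) else ∅ with hB
    have hBmem : ∀ b ∈ T, a ∈ B b ∧ e ∈ B b ∧ b ∈ B b ∧ (B b).card = k ∧
        ∀ c ∈ B b, c ∈ blockFix G x₀ → c = a ∨ c = b := by
      intro b hb
      obtain ⟨hba, heb, hbB⟩ := hTp b hb
      simp only [hB, dif_pos hb]
      set y := triple hae hba.symm heb with hy
      have m0 : a ∈ blockFix G y := apply_mem_blockFix (G := G) y 0
      have m1 : e ∈ blockFix G y := apply_mem_blockFix (G := G) y 1
      have m2 : b ∈ blockFix G y := apply_mem_blockFix (G := G) y 2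
      refine ⟨m0, m1, m2, hcardB y, fun c hc hcB => ?_⟩
      by_contra hh
      push Not at hh
      obtain ⟨hca, hcb⟩ := hh
      have e1 : blockFix G (triple hba.symm hca.symm hcb.symm) = blockFix G y := hblock y _ fun i => by
        fin_cases i <;> simpa [triple]
      have e2 : blockFix G (triple hba.symm hca.symm hcb.symm) = blockFix G x₀ := hblock x₀ _ fun i => by
        fin_cases i <;> simpa [triple]
      exact he (e2 ▸ e1 ▸ m1)
    have hdisj : (T : Set α).PairwiseDisjoint fun b => ((B b).erase a).erase e := by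
      intro b hb b' hb' hne'
      simp only [Function.onFun]
      rw [Finset.disjoint_left]
      intro c hc hc'
      simp only [Finset.mem_erase] at hc hc'
      obtain ⟨hce, hca, hcB⟩ := hc
      obtain ⟨-, -, hcB'⟩ := hc'
      obtain ⟨g1, g2, g3, -, g5⟩ := hBmem b hb
      obtain ⟨g1', g2', g3', -, g5'⟩ := hBmem b' hb'
      obtain ⟨hba, heb, hbB⟩ := hTp b hb
      obtain ⟨hba', heb', hbB'⟩ := hTp b' hb'
      set w := triple hae hca.symm hce.symm with hw
      have e1 : blockFix G w = B b := by
        simp only [hB, dif_pos (Finset.mem_coe.1 hb)] at g1 g2 hcB ⊢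
        exact hblock _ _ fun i => by fin_cases i <;> simpa [hw, triple]
      have e2 : blockFix G w = B b' := by
        simp only [hB, dif_pos (Finset.mem_coe.1 hb')] at g1' g2' hcB' ⊢
        exact hblock _ _ fun i => by fin_cases i <;> simpa [hw, triple]
      rcases g5' b (e2 ▸ e1.symm ▸ g3) hbB with h' | h'
      · exact hba h'
      · exact hne' h'
    have hsub : T.biUnion (fun b => ((B b).erase a).erase e) ∪ {a, e} ⊆ Finset.univ := Finset.subset_univ _
    have hcardU : (T.biUnion fun b => ((B b).erase a).erase e).card = (k - 1) * (k - 2) := by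
      rw [Finset.card_biUnion hdisj, Finset.sum_congr rfl fun b hb => by
        rw [Finset.card_erase_of_mem (Finset.mem_erase.2 ⟨hae.symm, (hBmem b hb).2.1⟩),
          Finset.card_erase_of_mem (hBmem b hb).1, (hBmem b hb).2.2.2.1], Finset.sum_const, smul_eq_mul,
        hT, Finset.card_erase_of_mem haB, ← hk]
      congr 1
    have h2 := Finset.card_le_card hsub
    rw [Finset.card_univ, hcardα, Finset.card_union_of_disjoint (by
      rw [Finset.disjoint_left]
      intro c hc
      obtain ⟨b, -, hc⟩ := Finset.mem_biUnion.1 hc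
      simp only [Finset.mem_erase] at hc
      simp [hc.1, hc.2.1]), hcardU, Finset.card_pair hae] at h2
    obtain ⟨t, ht⟩ : ∃ t, k = t + 5 := ⟨k - 5, by omega⟩
    rw [ht] at h2 h4k
    rw [show t + 5 - 1 = t + 4 by omega, show t + 5 - 2 = t + 3 by omega] at h2
    nlinarith
  have hF1 : Nat.card (F x₀) = 1 := by
    rw [Subgroup.card_eq_one, Subgroup.eq_bot_iff_forall]
    intro g hg
    refine FaithfulSMul.eq_of_smul_eq_smul (α := α) fun d => ?_
    rw [one_smul]
    exact mem_blockFix.1 (by rw [huniv]; exact Finset.mem_univ d) g hg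
  rw [← hmul x₀, hF1, mul_one, Nat.card_eq_fintype_card, Fintype.card_embedding_eq, Fintype.card_fin,
    hcardα]
  simp only [Nat.descFactorial_succ, Nat.descFactorial_zero, Nat.sub_zero, mul_one]
  ring

end Cfsg.Agent.PrimeBlock.PrimeDegree
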